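import Cfsg.Agent.Lib.Helper9.TCData.S44C0.Main

set_option autoImplicit false
set_option maxRecDepth 1000000

namespace Cfsg.Agent.Helper9.TCData.S44C0
open Cfsg.Agent.Helper9.TC2

theorem m2_33 : allRange 2475 75 (fun u => chkFix tab mwordsA u) = true := by decide +kernel

theorem m2_34 : allRange 2550 75 (fun u => chkFix tab mwordsA u) = true := by decide +kernel

theorem m2_35 : allRange 2625 75 (fun u => chkFix tab mwordsA u) = true := by decide +kernel

theorem m2_36 : allRange 2700 75 (fun u => chkFix tab mwordsA u) = true := by decide +kernel

theorem m2_37 : allRange 2775 75 (fun u => chkFix tab mwordsA u) = true := by decide +kernel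

theorem m2_38 : allRange 2850 75 (fun u => chkFix tab mwordsA u) = true := by decide +kernel

theorem m2_39 : allRange 2925 75 (fun u => chkFix tab mwordsA u) = true := by decide +kernel

theorem m2_40 : allRange 3000 75 (fun u => chkFix tab mwordsA u) = true := by decide +kernel


end Cfsg.Agent.Helper9.TCData.S44C0
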