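import Cfsg.Agent.Lib.Helper9.TCData.S44C0.S0
import Cfsg.Agent.Lib.Helper9.TCData.S44C0.S1
import Cfsg.Agent.Lib.Helper9.TCData.S44C0.S2
import Cfsg.Agent.Lib.Helper9.TCData.S44C0.S3
import Cfsg.Agent.Lib.Helper9.TCData.S44C0.S4
import Cfsg.Agent.Lib.Helper9.TCData.S44C0.S5
import Cfsg.Agent.Lib.Helper9.TCData.S44C0.S6
import Cfsg.Agent.Lib.Helper9.TCData.S44C0.S7
import Cfsg.Agent.Lib.Helper9.TCData.S44C0.S8
import Cfsg.Agent.Lib.Helper9.TCData.S44C0.S9
import Cfsg.Agent.Lib.Helper9.TCData.S44C0.S10
import Cfsg.Agent.Lib.Helper9.TCData.S44C0.S11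
import Cfsg.Agent.Lib.Helper9.TCData.S44C0.S12

set_option autoImplicit false
set_option maxRecDepth 1000000

namespace Cfsg.Agent.Helper9.TCData.S44C0
open Cfsg.Agent.Helper9.TC2


theorem hE0 : ∀ u < 4080, chkE tab 0 u = true := by
  have h0 : ∀ u < 0, (fun u => chkE tab 0 u) u = true := range_zero
  have h1 : ∀ u < 2406, (fun u => chkE tab 0 u) u = true := ext_range (a := 0) (len := 2406) h0 e0_0
  have h2 : ∀ u < 4080, (fun u => chkE tab 0 u) u = true := ext_range (a := 2406) (len := 1674) h1 e0_1
  exact h2

theorem hE1 : ∀ u < 4080, chkE tab 1 u = true := by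
  have h0 : ∀ u < 0, (fun u => chkE tab 1 u) u = true := range_zero
  have h1 : ∀ u < 2613, (fun u => chkE tab 1 u) u = true := ext_range (a := 0) (len := 2613) h0 e1_0
  have h2 : ∀ u < 4080, (fun u => chkE tab 1 u) u = true := ext_range (a := 2613) (len := 1467) h1 e1_1
  exact h2

theorem hE2 : ∀ u < 4080, chkE tab 2 u = true := by
  have h0 : ∀ u < 0, (fun u => chkE tab 2 u) u = true := range_zero
  have h1 : ∀ u < 3035, (fun u => chkE tab 2 u) u = true := ext_range (a := 0) (len := 3035) h0 e2_0
  have h2 : ∀ u < 4080, (fun u => chkE tab 2 u) u = true := ext_range (a := 3035) (len := 1045) h1 e2_1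
  exact h2

theorem hE3 : ∀ u < 4080, chkE tab 3 u = true := by
  have h0 : ∀ u < 0, (fun u => chkE tab 3 u) u = true := range_zero
  have h1 : ∀ u < 2634, (fun u => chkE tab 3 u) u = true := ext_range (a := 0) (len := 2634) h0 e3_0
  have h2 : ∀ u < 4080, (fun u => chkE tab 3 u) u = true := ext_range (a := 2634) (len := 1446) h1 e3_1
  exact h2

theorem hE4 : ∀ u < 4080, chkE tab 4 u = true := by
  have h0 : ∀ u < 0, (fun u => chkE tab 4 u) u = true := range_zero
  have h1 : ∀ u < 3845, (fun u => chkE tab 4 u) u = true := ext_range (a := 0) (len := 3845) h0 e4_0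
  have h2 : ∀ u < 4080, (fun u => chkE tab 4 u) u = true := ext_range (a := 3845) (len := 235) h1 e4_1
  exact h2

theorem hL : ∀ u < 4080, chkL tab u = true := by
  have h0 : ∀ u < 0, (fun u => chkL tab u) u = true := range_zero
  have h1 : ∀ u < 4080, (fun u => chkL tab u) u = true := ext_range (a := 0) (len := 4080) h0 l_0
  exact h1

theorem hF : ∀ u < 4080, chkFin tab u = true := by
  have h0 : ∀ u < 0, (fun u => chkFin tab u) u = true := range_zero
  have h1 : ∀ u < 471, (fun u => chkFin tab u) u = true := ext_range (a := 0) (len := 471) h0 f_0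
  have h2 : ∀ u < 942, (fun u => chkFin tab u) u = true := ext_range (a := 471) (len := 471) h1 f_1
  have h3 : ∀ u < 1413, (fun u => chkFin tab u) u = true := ext_range (a := 942) (len := 471) h2 f_2
  have h4 : ∀ u < 1884, (fun u => chkFin tab u) u = true := ext_range (a := 1413) (len := 471) h3 f_3
  have h5 : ∀ u < 2355, (fun u => chkFin tab u) u = true := ext_range (a := 1884) (len := 471) h4 f_4
  have h6 : ∀ u < 2826, (fun u => chkFin tab u) u = true := ext_range (a := 2355) (len := 471) h5 f_5
  have h7 : ∀ u < 3297, (fun u => chkFin tab u) u = true := ext_range (a := 2826) (len := 471) h6 f_6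
  have h8 : ∀ u < 3768, (fun u => chkFin tab u) u = true := ext_range (a := 3297) (len := 471) h7 f_7
  have h9 : ∀ u < 4080, (fun u => chkFin tab u) u = true := ext_range (a := 3768) (len := 312) h8 f_8
  exact h9

theorem hC : ∀ u < 4080, chkCls tab u = true := by
  have h0 : ∀ u < 0, (fun u => chkCls tab u) u = true := range_zero
  have h1 : ∀ u < 2667, (fun u => chkCls tab u) u = true := ext_range (a := 0) (len := 2667) h0 c_0
  have h2 : ∀ u < 4080, (fun u => chkCls tab u) u = true := ext_range (a := 2667) (len := 1413) h1 c_1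
  exact h2

theorem hM1 : ∀ u < 4080, chkM1 tab u = true := by
  have h0 : ∀ u < 0, (fun u => chkM1 tab u) u = true := range_zero
  have h1 : ∀ u < 1231, (fun u => chkM1 tab u) u = true := ext_range (a := 0) (len := 1231) h0 m1_0
  have h2 : ∀ u < 2462, (fun u => chkM1 tab u) u = true := ext_range (a := 1231) (len := 1231) h1 m1_1
  have h3 : ∀ u < 3693, (fun u => chkM1 tab u) u = true := ext_range (a := 2462) (len := 1231) h2 m1_2
  have h4 : ∀ u < 4080, (fun u => chkM1 tab u) u = true := ext_range (a := 3693) (len := 387) h3 m1_3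
  exact h4

theorem hMA : ∀ u < 4080, chkAux tab aux u = true := by
  have h0 : ∀ u < 0, (fun u => chkAux tab aux u) u = true := range_zero
  have h1 : ∀ u < 1819, (fun u => chkAux tab aux u) u = true := ext_range (a := 0) (len := 1819) h0 ma_0
  have h2 : ∀ u < 3638, (fun u => chkAux tab aux u) u = true := ext_range (a := 1819) (len := 1819) h1 ma_1
  have h3 : ∀ u < 4080, (fun u => chkAux tab aux u) u = true := ext_range (a := 3638) (len := 442) h2 ma_2
  exact h3

theorem hM2A : ∀ u < 4080, chkFix tab mwordsA u = true := by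
  have h0 : ∀ u < 0, (fun u => chkFix tab mwordsA u) u = true := range_zero
  have h1 : ∀ u < 75, (fun u => chkFix tab mwordsA u) u = true := ext_range (a := 0) (len := 75) h0 m2_0
  have h2 : ∀ u < 150, (fun u => chkFix tab mwordsA u) u = true := ext_range (a := 75) (len := 75) h1 m2_1
  have h3 : ∀ u < 225, (fun u => chkFix tab mwordsA u) u = true := ext_range (a := 150) (len := 75) h2 m2_2
  have h4 : ∀ u < 300, (fun u => chkFix tab mwordsA u) u = true := ext_range (a := 225) (len := 75) h3 m2_3
  have h5 : ∀ u < 375, (fun u => chkFix tab mwordsA u) u = true := ext_range (a := 300) (len := 75) h4 m2_4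
  have h6 : ∀ u < 450, (fun u => chkFix tab mwordsA u) u = true := ext_range (a := 375) (len := 75) h5 m2_5
  have h7 : ∀ u < 525, (fun u => chkFix tab mwordsA u) u = true := ext_range (a := 450) (len := 75) h6 m2_6
  have h8 : ∀ u < 600, (fun u => chkFix tab mwordsA u) u = true := ext_range (a := 525) (len := 75) h7 m2_7
  have h9 : ∀ u < 675, (fun u => chkFix tab mwordsA u) u = true := ext_range (a := 600) (len := 75) h8 m2_8
  have h10 : ∀ u < 750, (fun u => chkFix tab mwordsA u) u = true := ext_range (a := 675) (len := 75) h9 m2_9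
  have h11 : ∀ u < 825, (fun u => chkFix tab mwordsA u) u = true := ext_range (a := 750) (len := 75) h10 m2_10
  have h12 : ∀ u < 900, (fun u => chkFix tab mwordsA u) u = true := ext_range (a := 825) (len := 75) h11 m2_11
  have h13 : ∀ u < 975, (fun u => chkFix tab mwordsA u) u = true := ext_range (a := 900) (len := 75) h12 m2_12
  have h14 : ∀ u < 1050, (fun u => chkFix tab mwordsA u) u = true := ext_range (a := 975) (len := 75) h13 m2_13
  have h15 : ∀ u < 1125, (fun u => chkFix tab mwordsA u) u = true := ext_range (a := 1050) (len := 75) h14 m2_14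
  have h16 : ∀ u < 1200, (fun u => chkFix tab mwordsA u) u = true := ext_range (a := 1125) (len := 75) h15 m2_15
  have h17 : ∀ u < 1275, (fun u => chkFix tab mwordsA u) u = true := ext_range (a := 1200) (len := 75) h16 m2_16
  have h18 : ∀ u < 1350, (fun u => chkFix tab mwordsA u) u = true := ext_range (a := 1275) (len := 75) h17 m2_17
  have h19 : ∀ u < 1425, (fun u => chkFix tab mwordsA u) u = true := ext_range (a := 1350) (len := 75) h18 m2_18
  have h20 : ∀ u < 1500, (fun u => chkFix tab mwordsA u) u = true := ext_range (a := 1425) (len := 75) h19 m2_19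
  have h21 : ∀ u < 1575, (fun u => chkFix tab mwordsA u) u = true := ext_range (a := 1500) (len := 75) h20 m2_20
  have h22 : ∀ u < 1650, (fun u => chkFix tab mwordsA u) u = true := ext_range (a := 1575) (len := 75) h21 m2_21
  have h23 : ∀ u < 1725, (fun u => chkFix tab mwordsA u) u = true := ext_range (a := 1650) (len := 75) h22 m2_22
  have h24 : ∀ u < 1800, (fun u => chkFix tab mwordsA u) u = true := ext_range (a := 1725) (len := 75) h23 m2_23
  have h25 : ∀ u < 1875, (fun u => chkFix tab mwordsA u) u = true := ext_range (a := 1800) (len := 75) h24 m2_24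
  have h26 : ∀ u < 1950, (fun u => chkFix tab mwordsA u) u = true := ext_range (a := 1875) (len := 75) h25 m2_25
  have h27 : ∀ u < 2025, (fun u => chkFix tab mwordsA u) u = true := ext_range (a := 1950) (len := 75) h26 m2_26
  have h28 : ∀ u < 2100, (fun u => chkFix tab mwordsA u) u = true := ext_range (a := 2025) (len := 75) h27 m2_27
  have h29 : ∀ u < 2175, (fun u => chkFix tab mwordsA u) u = true := ext_range (a := 2100) (len := 75) h28 m2_28
  have h30 : ∀ u < 2250, (fun u => chkFix tab mwordsA u) u = true := ext_range (a := 2175) (len := 75) h29 m2_29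
  have h31 : ∀ u < 2325, (fun u => chkFix tab mwordsA u) u = true := ext_range (a := 2250) (len := 75) h30 m2_30
  have h32 : ∀ u < 2400, (fun u => chkFix tab mwordsA u) u = true := ext_range (a := 2325) (len := 75) h31 m2_31
  have h33 : ∀ u < 2475, (fun u => chkFix tab mwordsA u) u = true := ext_range (a := 2400) (len := 75) h32 m2_32
  have h34 : ∀ u < 2550, (fun u => chkFix tab mwordsA u) u = true := ext_range (a := 2475) (len := 75) h33 m2_33
  have h35 : ∀ u < 2625, (fun u => chkFix tab mwordsA u) u = true := ext_range (a := 2550) (len := 75) h34 m2_34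
  have h36 : ∀ u < 2700, (fun u => chkFix tab mwordsA u) u = true := ext_range (a := 2625) (len := 75) h35 m2_35
  have h37 : ∀ u < 2775, (fun u => chkFix tab mwordsA u) u = true := ext_range (a := 2700) (len := 75) h36 m2_36
  have h38 : ∀ u < 2850, (fun u => chkFix tab mwordsA u) u = true := ext_range (a := 2775) (len := 75) h37 m2_37
  have h39 : ∀ u < 2925, (fun u => chkFix tab mwordsA u) u = true := ext_range (a := 2850) (len := 75) h38 m2_38
  have h40 : ∀ u < 3000, (fun u => chkFix tab mwordsA u) u = true := ext_range (a := 2925) (len := 75) h39 m2_39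
  have h41 : ∀ u < 3075, (fun u => chkFix tab mwordsA u) u = true := ext_range (a := 3000) (len := 75) h40 m2_40
  have h42 : ∀ u < 3150, (fun u => chkFix tab mwordsA u) u = true := ext_range (a := 3075) (len := 75) h41 m2_41
  have h43 : ∀ u < 3225, (fun u => chkFix tab mwordsA u) u = true := ext_range (a := 3150) (len := 75) h42 m2_42
  have h44 : ∀ u < 3300, (fun u => chkFix tab mwordsA u) u = true := ext_range (a := 3225) (len := 75) h43 m2_43
  have h45 : ∀ u < 3375, (fun u => chkFix tab mwordsA u) u = true := ext_range (a := 3300) (len := 75) h44 m2_44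
  have h46 : ∀ u < 3450, (fun u => chkFix tab mwordsA u) u = true := ext_range (a := 3375) (len := 75) h45 m2_45
  have h47 : ∀ u < 3525, (fun u => chkFix tab mwordsA u) u = true := ext_range (a := 3450) (len := 75) h46 m2_46
  have h48 : ∀ u < 3600, (fun u => chkFix tab mwordsA u) u = true := ext_range (a := 3525) (len := 75) h47 m2_47
  have h49 : ∀ u < 3675, (fun u => chkFix tab mwordsA u) u = true := ext_range (a := 3600) (len := 75) h48 m2_48
  have h50 : ∀ u < 3750, (fun u => chkFix tab mwordsA u) u = true := ext_range (a := 3675) (len := 75) h49 m2_49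
  have h51 : ∀ u < 3825, (fun u => chkFix tab mwordsA u) u = true := ext_range (a := 3750) (len := 75) h50 m2_50
  have h52 : ∀ u < 3900, (fun u => chkFix tab mwordsA u) u = true := ext_range (a := 3825) (len := 75) h51 m2_51
  have h53 : ∀ u < 3975, (fun u => chkFix tab mwordsA u) u = true := ext_range (a := 3900) (len := 75) h52 m2_52
  have h54 : ∀ u < 4050, (fun u => chkFix tab mwordsA u) u = true := ext_range (a := 3975) (len := 75) h53 m2_53
  have h55 : ∀ u < 4080, (fun u => chkFix tab mwordsA u) u = true := ext_range (a := 4050) (len := 30) h54 m2_54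
  exact h55

theorem hE : ∀ c < 5, ∀ u < 4080, chkE tab c u = true := by
  intro c hc
  interval_cases c
  · exact hE0
  · exact hE1
  · exact hE2
  · exact hE3
  · exact hE4

end Cfsg.Agent.Helper9.TCData.S44C0
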