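import Cfsg.Agent.Lib.Helper9.TC2Cox
import Cfsg.Agent.Lib.Helper9.TC2Aux
import Cfsg.Agent.Lib.Helper9.TC2BSGS
import Cfsg.Agent.Lib.Helper9.TC2Pack
import Cfsg.Agent.Lib.Helper9.TCData.S44C0.P0

set_option autoImplicit false
set_option maxRecDepth 100000

namespace Cfsg.Agent.Helper9.TCData.S44C0
open Cfsg.Agent.Helper9.TC2
/-- The rotated relators. -/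
noncomputable def rotT : WT := (WT.node 39 (WT.node 19 (WT.node 9 (WT.node 4 (WT.node 2 (WT.node 1 (WT.leaf [0, 3, 0, 4]) (WT.leaf [0, 4, 0, 3])) (WT.node 3 (WT.leaf [0, 2, 0, 2]) (WT.leaf [0, 1, 0, 1, 0, 1, 2, 1, 0, 1, 0, 1, 0, 1, 0, 1, 2, 1, 0, 1]))) (WT.node 6 (WT.node 5 (WT.leaf [0, 1, 0, 1, 0, 1, 0, 1, 0, 1, 0, 1, 0, 1, 0, 1, 0, 1, 0, 1]) (WT.leaf [0, 1, 0, 1, 0, 1, 0, 1, 2, 1, 0, 1, 0, 1, 0, 1, 0, 1, 2, 1])) (WT.node 7 (WT.leaf [0, 1, 0, 2, 1, 0, 1, 2, 3, 2, 1, 0, 1, 0, 2, 1, 0, 1, 2, 3, 2, 1, 0, 1, 2, 0, 1, 0, 1, 2, 3, 2, 1, 0, 1, 2, 0, 1, 0, 1, 2, 3, 2, 1, 0, 1, 2, 0, 1, 0, 1, 2, 0, 1, 0, 1, 0, 3, 2, 1]) (WT.node 8 (WT.leaf [0, 2, 0, 1, 2, 1, 2, 1]) (WT.leaf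 [0, 1, 2, 3, 2, 1, 0, 1, 2, 0, 1, 0, 1, 2, 4, 2, 1, 0, 1, 2, 0, 1, 0, 1, 2, 3, 2, 1, 0, 1, 2, 1, 0, 1, 0, 1, 2, 1, 0, 1, 0, 3, 2, 1, 0, 1, 0, 2, 1, 0, 1, 2, 4, 2, 1, 0, 1, 0, 2, 1]))))) (WT.node 14 (WT.node 11 (WT.node 10 (WT.leaf [0, 1, 2, 4, 2, 1, 0, 1, 0, 2, 1, 0, 1, 2, 3, 2, 1, 0, 1, 2, 0, 1, 0, 1, 2, 4, 2, 1, 0, 1, 2, 0, 1, 0, 1, 2, 3, 2, 1, 0, 1, 2, 1, 0, 1, 0, 1, 2, 1, 0, 1, 0, 3, 2, 1, 0, 1, 0, 2, 1]) (WT.leaf [0, 2, 1, 0, 1, 2, 3, 2, 1, 0, 1, 2, 0, 1, 0, 1, 2, 4, 2, 1, 0, 1, 2, 0, 1, 0, 1, 2, 3, 2, 1, 0, 1, 2, 1, 0, 1, 0, 1, 2, 1, 0, 1, 0, 3, 2, 1, 0, 1, 0, 2, 1, 0, 1, 2, 4, 2, 1, 0, 1])) (WT.node 12 (WT.leaf [0, 1, 0, 3, 2, 1, 0, 1, 0, 2, 1, 0, 1, 2,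 3, 2, 1, 0, 1, 0, 2, 1, 0, 1, 2, 3, 2, 1, 0, 1, 2, 0, 1, 0, 1, 2, 3, 2, 1, 0, 1, 2, 0, 1, 0, 1, 2, 3, 2, 1, 0, 1, 2, 0, 1, 0, 1, 2, 0, 1]) (WT.node 13 (WT.leaf [0, 1, 2, 0, 1, 0, 1, 2, 0, 1, 0, 1, 0, 3, 2, 1, 0, 1, 0, 2, 1, 0, 1, 2, 3, 2, 1, 0, 1, 0, 2, 1, 0, 1, 2, 3, 2, 1, 0, 1, 2, 0, 1, 0, 1, 2, 3, 2, 1, 0, 1, 2, 0, 1, 0, 1, 2, 3, 2, 1]) (WT.leaf [0, 1, 2, 1, 0, 1, 0, 1, 0, 1, 0, 1, 2, 1, 0, 1, 0, 1, 0, 1])))) (WT.node 16 (WT.node 15 (WT.leaf [1, 3, 1, 3]) (WT.leaf [1, 2, 1, 2, 1, 2])) (WT.node 17 (WT.leaf [1, 0, 1, 0, 1, 2, 1, 0, 1, 0, 1, 0, 1, 0, 1, 2, 1, 0, 1, 0]) (WT.node 18 (WT.leaf [1, 0, 1, 0, 1, 0, 1, 0, 1, 0, 1, 0, 1, 0, 1, 0, 1, 0, 1, 0]) (WT.leaf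 [1, 0, 1, 0, 1, 0, 1, 2, 1, 0, 1, 0, 1, 0, 1, 0, 1, 2, 1, 0])))))) (WT.node 29 (WT.node 24 (WT.node 21 (WT.node 20 (WT.leaf [1, 2, 1, 2, 1, 0, 2, 0]) (WT.leaf [1, 0, 2, 1, 0, 1, 2, 4, 2, 1, 0, 1, 0, 2, 1, 0, 1, 2, 3, 2, 1, 0, 1, 2, 0, 1, 0, 1, 2, 4, 2, 1, 0, 1, 2, 0, 1, 0, 1, 2, 3, 2, 1, 0, 1, 2, 1, 0, 1, 0, 1, 2, 1, 0, 1, 0, 3, 2, 1, 0])) (WT.node 22 (WT.leaf [1, 0, 1, 2, 1, 0, 1, 0, 3, 2, 1, 0, 1, 0, 2, 1, 0, 1, 2, 4, 2, 1, 0, 1, 0, 2, 1, 0, 1, 2, 3, 2, 1, 0, 1, 2, 0, 1, 0, 1, 2, 4, 2, 1, 0, 1, 2, 0, 1, 0, 1, 2, 3, 2, 1, 0, 1, 2, 1, 0]) (WT.node 23 (WT.leaf [1, 0, 1, 2, 1, 0, 1, 0, 1, 0, 1, 0, 1, 2, 1, 0, 1, 0, 1, 0]) (WT.leaf [1, 0, 1, 2, 4, 2, 1, 0, 1, 2,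 0, 1, 0, 1, 2, 3, 2, 1, 0, 1, 2, 1, 0, 1, 0, 1, 2, 1, 0, 1, 0, 3, 2, 1, 0, 1, 0, 2, 1, 0, 1, 2, 4, 2, 1, 0, 1, 0, 2, 1, 0, 1, 2, 3, 2, 1, 0, 1, 2, 0])))) (WT.node 26 (WT.node 25 (WT.leaf [1, 0, 1, 2, 3, 2, 1, 0, 1, 2, 0, 1, 0, 1, 2, 4, 2, 1, 0, 1, 2, 0, 1, 0, 1, 2, 3, 2, 1, 0, 1, 2, 1, 0, 1, 0, 1, 2, 1, 0, 1, 0, 3, 2, 1, 0, 1, 0, 2, 1, 0, 1, 2, 4, 2, 1, 0, 1, 0, 2]) (WT.leaf [1, 2, 1, 0, 1, 0, 1, 0, 1, 0, 1, 2, 1, 0, 1, 0, 1, 0, 1, 0])) (WT.node 27 (WT.leaf [1, 0, 1, 0, 3, 2, 1, 0, 1, 0, 2, 1, 0, 1, 2, 3, 2, 1, 0, 1, 0, 2, 1, 0, 1, 2, 3, 2, 1, 0, 1, 2, 0, 1, 0, 1, 2, 3, 2, 1, 0, 1, 2, 0, 1, 0, 1, 2, 3, 2, 1, 0, 1, 2, 0, 1, 0, 1, 2, 0]) (WT.node 28 (WT.leaf [1,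 0, 1, 0, 1, 0, 1, 0, 1, 2, 1, 0, 1, 0, 1, 0, 1, 0, 1, 2]) (WT.leaf [1, 0, 3, 2, 1, 0, 1, 0, 2, 1, 0, 1, 2, 4, 2, 1, 0, 1, 0, 2, 1, 0, 1, 2, 3, 2, 1, 0, 1, 2, 0, 1, 0, 1, 2, 4, 2, 1, 0, 1, 2, 0, 1, 0, 1, 2, 3, 2, 1, 0, 1, 2, 1, 0, 1, 0, 1, 2, 1, 0]))))) (WT.node 34 (WT.node 31 (WT.node 30 (WT.leaf [1, 0, 1, 2, 3, 2, 1, 0, 1, 0, 2, 1, 0, 1, 2, 3, 2, 1, 0, 1, 2, 0, 1, 0, 1, 2, 3, 2, 1, 0, 1, 2, 0, 1, 0, 1, 2, 3, 2, 1, 0, 1, 2, 0, 1, 0, 1, 2, 0, 1, 0, 1, 0, 3, 2, 1, 0, 1, 0, 2]) (WT.leaf [1, 0, 1, 2, 3, 2, 1, 0, 1, 2, 0, 1, 0, 1, 2, 3, 2, 1, 0, 1, 2, 0, 1, 0, 1, 2, 0, 1, 0, 1, 0, 3, 2, 1, 0, 1, 0, 2, 1, 0, 1, 2, 3, 2, 1, 0, 1, 0, 2, 1, 0, 1, 2, 3, 2, 1, 0, 1, 2,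 0])) (WT.node 32 (WT.leaf [1, 0, 1, 2, 3, 2, 1, 0, 1, 2, 0, 1, 0, 1, 2, 3, 2, 1, 0, 1, 2, 0, 1, 0, 1, 2, 3, 2, 1, 0, 1, 2, 0, 1, 0, 1, 2, 0, 1, 0, 1, 0, 3, 2, 1, 0, 1, 0, 2, 1, 0, 1, 2, 3, 2, 1, 0, 1, 0, 2]) (WT.node 33 (WT.leaf [1, 0, 1, 2, 3, 2, 1, 0, 1, 2, 0, 1, 0, 1, 2, 0, 1, 0, 1, 0, 3, 2, 1, 0, 1, 0, 2, 1, 0, 1, 2, 3, 2, 1, 0, 1, 0, 2, 1, 0, 1, 2, 3, 2, 1, 0, 1, 2, 0, 1, 0, 1, 2, 3, 2, 1, 0, 1, 2, 0]) (WT.leaf [1, 0, 1, 0, 2, 1, 0, 1, 2, 3, 2, 1, 0, 1, 0, 2, 1, 0, 1, 2, 3, 2, 1, 0, 1, 2, 0, 1, 0, 1, 2, 3, 2, 1, 0, 1, 2, 0, 1, 0, 1, 2, 3, 2, 1, 0, 1, 2, 0, 1, 0, 1, 2, 0, 1, 0, 1, 0, 3, 2])))) (WT.node 36 (WT.node 35 (WT.leaf [1, 0, 3, 2, 1, 0, 1, 0, 2, 1,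 0, 1, 2, 3, 2, 1, 0, 1, 0, 2, 1, 0, 1, 2, 3, 2, 1, 0, 1, 2, 0, 1, 0, 1, 2, 3, 2, 1, 0, 1, 2, 0, 1, 0, 1, 2, 3, 2, 1, 0, 1, 2, 0, 1, 0, 1, 2, 0, 1, 0]) (WT.leaf [1, 2, 3, 2, 1, 0, 1, 0, 2, 1, 0, 1, 2, 3, 2, 1, 0, 1, 2, 0, 1, 0, 1, 2, 3, 2, 1, 0, 1, 2, 0, 1, 0, 1, 2, 3, 2, 1, 0, 1, 2, 0, 1, 0, 1, 2, 0, 1, 0, 1, 0, 3, 2, 1, 0, 1, 0, 2, 1, 0])) (WT.node 37 (WT.leaf [1, 0, 1, 2, 4, 2, 1, 0, 1, 0, 2, 1, 0, 1, 2, 3, 2, 1, 0, 1, 2, 0, 1, 0, 1, 2, 4, 2, 1, 0, 1, 2, 0, 1, 0, 1, 2, 3, 2, 1, 0, 1, 2, 1, 0, 1, 0, 1, 2, 1, 0, 1, 0, 3, 2, 1, 0, 1, 0, 2]) (WT.node 38 (WT.leaf [1, 0, 2, 1, 0, 1, 2, 3, 2, 1, 0, 1, 2, 0, 1, 0, 1, 2, 3, 2, 1, 0, 1, 2, 0, 1, 0, 1, 2, 3, 2, 1, 0,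 1, 2, 0, 1, 0, 1, 2, 0, 1, 0, 1, 0, 3, 2, 1, 0, 1, 0, 2, 1, 0, 1, 2, 3, 2, 1, 0]) (WT.leaf [1, 0, 1, 0, 2, 1, 0, 1, 2, 4, 2, 1, 0, 1, 0, 2, 1, 0, 1, 2, 3, 2, 1, 0, 1, 2, 0, 1, 0, 1, 2, 4, 2, 1, 0, 1, 2, 0, 1, 0, 1, 2, 3, 2, 1, 0, 1, 2, 1, 0, 1, 0, 1, 2, 1, 0, 1, 0, 3, 2]))))))) (WT.node 59 (WT.node 49 (WT.node 44 (WT.node 41 (WT.node 40 (WT.leaf [1, 2, 0, 1, 0, 1, 2, 3, 2, 1, 0, 1, 2, 1, 0, 1, 0, 1, 2, 1, 0, 1, 0, 3, 2, 1, 0, 1, 0, 2, 1, 0, 1, 2, 4, 2, 1, 0, 1, 0, 2, 1, 0, 1, 2, 3, 2, 1, 0, 1, 2, 0, 1, 0, 1, 2, 4, 2, 1, 0]) (WT.leaf [1, 0, 2, 1, 0, 1, 2, 3, 2, 1, 0, 1, 2, 0, 1, 0, 1, 2, 4, 2, 1, 0, 1, 2, 0, 1, 0, 1, 2, 3, 2, 1, 0, 1, 2, 1, 0, 1, 0, 1, 2, 1, 0,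 1, 0, 3, 2, 1, 0, 1, 0, 2, 1, 0, 1, 2, 4, 2, 1, 0])) (WT.node 42 (WT.leaf [2, 1, 2, 1, 2, 1]) (WT.node 43 (WT.leaf [2, 3, 2, 3, 2, 3]) (WT.leaf [2, 0, 2, 0])))) (WT.node 46 (WT.node 45 (WT.leaf [2, 1, 0, 1, 2, 3, 2, 1, 0, 1, 2, 0, 1, 0, 1, 2, 4, 2, 1, 0, 1, 2, 0, 1, 0, 1, 2, 3, 2, 1, 0, 1, 2, 1, 0, 1, 0, 1, 2, 1, 0, 1, 0, 3, 2, 1, 0, 1, 0, 2, 1, 0, 1, 2, 4, 2, 1, 0, 1, 0]) (WT.leaf [2, 0, 1, 2, 1, 2, 1, 0])) (WT.node 47 (WT.leaf [2, 0, 1, 0, 1, 2, 4, 2, 1, 0, 1, 2, 0, 1, 0, 1, 2, 3, 2, 1, 0, 1, 2, 1, 0, 1, 0, 1, 2, 1, 0, 1, 0, 3, 2, 1, 0, 1, 0, 2, 1, 0, 1, 2, 4, 2, 1, 0, 1, 0, 2, 1, 0, 1, 2, 3, 2, 1, 0, 1]) (WT.node 48 (WT.leaf [2, 0, 1, 0, 1, 2, 3, 2, 1, 0,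 1, 2, 1, 0, 1, 0, 1, 2, 1, 0, 1, 0, 3, 2, 1, 0, 1, 0, 2, 1, 0, 1, 2, 4, 2, 1, 0, 1, 0, 2, 1, 0, 1, 2, 3, 2, 1, 0, 1, 2, 0, 1, 0, 1, 2, 4, 2, 1, 0, 1]) (WT.leaf [2, 3, 2, 1, 0, 1, 0, 2, 1, 0, 1, 2, 3, 2, 1, 0, 1, 2, 0, 1, 0, 1, 2, 3, 2, 1, 0, 1, 2, 0, 1, 0, 1, 2, 3, 2, 1, 0, 1, 2, 0, 1, 0, 1, 2, 0, 1, 0, 1, 0, 3, 2, 1, 0, 1, 0, 2, 1, 0, 1]))))) (WT.node 54 (WT.node 51 (WT.node 50 (WT.leaf [2, 4, 2, 1, 0, 1, 0, 2, 1, 0, 1, 2, 3, 2, 1, 0, 1, 2, 0, 1, 0, 1, 2, 4, 2, 1, 0, 1, 2, 0, 1, 0, 1, 2, 3, 2, 1, 0, 1, 2, 1, 0, 1, 0, 1, 2, 1, 0, 1, 0, 3, 2, 1, 0, 1, 0, 2, 1, 0, 1]) (WT.leaf [2, 1, 0, 1, 0, 2, 1, 0, 1, 2, 3, 2, 1, 0, 1, 2, 0, 1, 0, 1, 2, 4, 2, 1, 0, 1, 2, 0,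 1, 0, 1, 2, 3, 2, 1, 0, 1, 2, 1, 0, 1, 0, 1, 2, 1, 0, 1, 0, 3, 2, 1, 0, 1, 0, 2, 1, 0, 1, 2, 4])) (WT.node 52 (WT.leaf [2, 1, 0, 1, 2, 1, 0, 1, 0, 1, 2, 1, 0, 1, 0, 3, 2, 1, 0, 1, 0, 2, 1, 0, 1, 2, 4, 2, 1, 0, 1, 0, 2, 1, 0, 1, 2, 3, 2, 1, 0, 1, 2, 0, 1, 0, 1, 2, 4, 2, 1, 0, 1, 2, 0, 1, 0, 1, 2, 3]) (WT.node 53 (WT.leaf [2, 1, 0, 1, 2, 0, 1, 0, 1, 2, 0, 1, 0, 1, 0, 3, 2, 1, 0, 1, 0, 2, 1, 0, 1, 2, 3, 2, 1, 0, 1, 0, 2, 1, 0, 1, 2, 3, 2, 1, 0, 1, 2, 0, 1, 0, 1, 2, 3, 2, 1, 0, 1, 2, 0, 1, 0, 1, 2, 3]) (WT.leaf [2, 4, 2, 1, 0, 1, 2, 0, 1, 0, 1, 2, 3, 2, 1, 0, 1, 2, 1, 0, 1, 0, 1, 2, 1, 0, 1, 0, 3, 2, 1, 0, 1, 0, 2, 1, 0, 1, 2, 4, 2, 1, 0, 1, 0, 2, 1, 0, 1, 2, 3,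 2, 1, 0, 1, 2, 0, 1, 0, 1])))) (WT.node 56 (WT.node 55 (WT.leaf [2, 1, 0, 1, 2, 3, 2, 1, 0, 1, 0, 2, 1, 0, 1, 2, 3, 2, 1, 0, 1, 2, 0, 1, 0, 1, 2, 3, 2, 1, 0, 1, 2, 0, 1, 0, 1, 2, 3, 2, 1, 0, 1, 2, 0, 1, 0, 1, 2, 0, 1, 0, 1, 0, 3, 2, 1, 0, 1, 0]) (WT.leaf [2, 1, 0, 1, 0, 2, 1, 0, 1, 2, 4, 2, 1, 0, 1, 0, 2, 1, 0, 1, 2, 3, 2, 1, 0, 1, 2, 0, 1, 0, 1, 2, 4, 2, 1, 0, 1, 2, 0, 1, 0, 1, 2, 3, 2, 1, 0, 1, 2, 1, 0, 1, 0, 1, 2, 1, 0, 1, 0, 3])) (WT.node 57 (WT.leaf [2, 3, 2, 1, 0, 1, 2, 0, 1, 0, 1, 2, 4, 2, 1, 0, 1, 2, 0, 1, 0, 1, 2, 3, 2, 1, 0, 1, 2, 1, 0, 1, 0, 1, 2, 1, 0, 1, 0, 3, 2, 1, 0, 1, 0, 2, 1, 0, 1, 2, 4, 2, 1, 0, 1, 0, 2, 1, 0, 1]) (WT.node 58 (WT.leaf [2, 1,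 0, 1, 0, 1, 0, 1, 0, 1, 2, 1, 0, 1, 0, 1, 0, 1, 0, 1]) (WT.leaf [2, 1, 0, 1, 2, 3, 2, 1, 0, 1, 2, 0, 1, 0, 1, 2, 3, 2, 1, 0, 1, 2, 0, 1, 0, 1, 2, 3, 2, 1, 0, 1, 2, 0, 1, 0, 1, 2, 0, 1, 0, 1, 0, 3, 2, 1, 0, 1, 0, 2, 1, 0, 1, 2, 3, 2, 1, 0, 1, 0])))))) (WT.node 69 (WT.node 64 (WT.node 61 (WT.node 60 (WT.leaf [2, 0, 1, 0, 1, 0, 3, 2, 1, 0, 1, 0, 2, 1, 0, 1, 2, 3, 2, 1, 0, 1, 0, 2, 1, 0, 1, 2, 3, 2, 1, 0, 1, 2, 0, 1, 0, 1, 2, 3, 2, 1, 0, 1, 2, 0, 1, 0, 1, 2, 3, 2, 1, 0, 1, 2, 0, 1, 0, 1]) (WT.leaf [2, 1, 0, 1, 2, 4, 2, 1, 0, 1, 0, 2, 1, 0, 1, 2, 3, 2, 1, 0, 1, 2, 0, 1, 0, 1, 2, 4, 2, 1, 0, 1, 2, 0, 1, 0, 1, 2, 3, 2, 1, 0, 1, 2, 1, 0, 1, 0, 1, 2, 1, 0, 1, 0, 3, 2,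 1, 0, 1, 0])) (WT.node 62 (WT.leaf [2, 1, 0, 1, 0, 2, 1, 0, 1, 2, 3, 2, 1, 0, 1, 0, 2, 1, 0, 1, 2, 3, 2, 1, 0, 1, 2, 0, 1, 0, 1, 2, 3, 2, 1, 0, 1, 2, 0, 1, 0, 1, 2, 3, 2, 1, 0, 1, 2, 0, 1, 0, 1, 2, 0, 1, 0, 1, 0, 3]) (WT.node 63 (WT.leaf [2, 0, 1, 0, 1, 2, 3, 2, 1, 0, 1, 2, 0, 1, 0, 1, 2, 3, 2, 1, 0, 1, 2, 0, 1, 0, 1, 2, 0, 1, 0, 1, 0, 3, 2, 1, 0, 1, 0, 2, 1, 0, 1, 2, 3, 2, 1, 0, 1, 0, 2, 1, 0, 1, 2, 3, 2, 1, 0, 1]) (WT.leaf [2, 1, 0, 1, 2, 0, 1, 0, 1, 2, 3, 2, 1, 0, 1, 2, 1, 0, 1, 0, 1, 2, 1, 0, 1, 0, 3, 2, 1, 0, 1, 0, 2, 1, 0, 1, 2, 4, 2, 1, 0, 1, 0, 2, 1, 0, 1, 2, 3, 2, 1, 0, 1, 2, 0, 1, 0, 1, 2, 4])))) (WT.node 66 (WT.node 65 (WT.leaf [3, 3, 3]) (WT.leaf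 [3, 2, 3, 2, 3, 2])) (WT.node 67 (WT.leaf [3, 1, 3, 1]) (WT.node 68 (WT.leaf [3, 0, 4, 0]) (WT.leaf [3, 2, 1, 0, 1, 0, 2, 1, 0, 1, 2, 3, 2, 1, 0, 1, 2, 0, 1, 0, 1, 2, 3, 2, 1, 0, 1, 2, 0, 1, 0, 1, 2, 3, 2, 1, 0, 1, 2, 0, 1, 0, 1, 2, 0, 1, 0, 1, 0, 3, 2, 1, 0, 1, 0, 2, 1, 0, 1, 2]))))) (WT.node 74 (WT.node 71 (WT.node 70 (WT.leaf [3, 2, 1, 0, 1, 2, 0, 1, 0, 1, 2, 4, 2, 1, 0, 1, 2, 0, 1, 0, 1, 2, 3, 2, 1, 0, 1, 2, 1, 0, 1, 0, 1, 2, 1, 0, 1, 0, 3, 2, 1, 0, 1, 0, 2, 1, 0, 1, 2, 4, 2, 1, 0, 1, 0, 2, 1, 0, 1, 2]) (WT.leaf [3, 2, 1, 0, 1, 0, 2, 1, 0, 1, 2, 3, 2, 1, 0, 1, 0, 2, 1, 0, 1, 2, 3, 2, 1, 0, 1, 2, 0, 1, 0, 1, 2, 3, 2, 1, 0, 1, 2, 0, 1, 0, 1, 2, 3, 2, 1, 0,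 1, 2, 0, 1, 0, 1, 2, 0, 1, 0, 1, 0])) (WT.node 72 (WT.leaf [3, 2, 1, 0, 1, 0, 2, 1, 0, 1, 2, 4, 2, 1, 0, 1, 0, 2, 1, 0, 1, 2, 3, 2, 1, 0, 1, 2, 0, 1, 0, 1, 2, 4, 2, 1, 0, 1, 2, 0, 1, 0, 1, 2, 3, 2, 1, 0, 1, 2, 1, 0, 1, 0, 1, 2, 1, 0, 1, 0]) (WT.node 73 (WT.leaf [3, 2, 1, 0, 1, 2, 0, 1, 0, 1, 2, 3, 2, 1, 0, 1, 2, 0, 1, 0, 1, 2, 0, 1, 0, 1, 0, 3, 2, 1, 0, 1, 0, 2, 1, 0, 1, 2, 3, 2, 1, 0, 1, 0, 2, 1, 0, 1, 2, 3, 2, 1, 0, 1, 2, 0, 1, 0, 1, 2]) (WT.leaf [3, 2, 1, 0, 1, 2, 1, 0, 1, 0, 1, 2, 1, 0, 1, 0, 3, 2, 1, 0, 1, 0, 2, 1, 0, 1, 2, 4, 2, 1, 0, 1, 0, 2, 1, 0, 1, 2, 3, 2, 1, 0, 1, 2, 0, 1, 0, 1, 2, 4, 2, 1, 0, 1, 2, 0, 1, 0, 1, 2])))) (WT.node 76 (WT.node 75 (WT.leaf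 [3, 2, 1, 0, 1, 2, 0, 1, 0, 1, 2, 3, 2, 1, 0, 1, 2, 0, 1, 0, 1, 2, 3, 2, 1, 0, 1, 2, 0, 1, 0, 1, 2, 0, 1, 0, 1, 0, 3, 2, 1, 0, 1, 0, 2, 1, 0, 1, 2, 3, 2, 1, 0, 1, 0, 2, 1, 0, 1, 2]) (WT.leaf [3, 2, 1, 0, 1, 2, 0, 1, 0, 1, 2, 0, 1, 0, 1, 0, 3, 2, 1, 0, 1, 0, 2, 1, 0, 1, 2, 3, 2, 1, 0, 1, 0, 2, 1, 0, 1, 2, 3, 2, 1, 0, 1, 2, 0, 1, 0, 1, 2, 3, 2, 1, 0, 1, 2, 0, 1, 0, 1, 2])) (WT.node 77 (WT.leaf [4, 0, 3, 0]) (WT.node 78 (WT.leaf [4, 2, 1, 0, 1, 0, 2, 1, 0, 1, 2, 3, 2, 1, 0, 1, 2, 0, 1, 0, 1, 2, 4, 2, 1, 0, 1, 2, 0, 1, 0, 1, 2, 3, 2, 1, 0, 1, 2, 1, 0, 1, 0, 1, 2, 1, 0, 1, 0, 3, 2, 1, 0, 1, 0, 2, 1, 0, 1, 2]) (WT.leaf [4, 2, 1, 0, 1, 2, 0, 1, 0, 1, 2, 3, 2, 1, 0,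 1, 2, 1, 0, 1, 0, 1, 2, 1, 0, 1, 0, 3, 2, 1, 0, 1, 0, 2, 1, 0, 1, 2, 4, 2, 1, 0, 1, 0, 2, 1, 0, 1, 2, 3, 2, 1, 0, 1, 2, 0, 1, 0, 1, 2]))))))))

/-- The sources of the rotated relators: relator and rotation. -/
def rotSrc : List (ℕ × ℕ) := [(12, 3), (12, 1), (2, 2), (10, 4), (1, 2), (10, 2), (15, 3), (9, 2), (16, 19), (16, 8), (16, 16), (15, 57), (15, 47), (10, 8), (13, 1), (5, 2), (10, 5), (1, 1), (10, 3), (9, 5), (16, 4), (16, 52), (10, 7), (16, 29), (16, 18), (10, 9), (15, 56), (10, 1), (16, 58), (15, 7), (15, 29), (15, 18), (15, 40), (15, 2), (15, 58), (15, 9), (16, 7), (15, 15), (16, 2), (16, 37), (16, 15), (5, 1), (14, 1), (2, 1), (16, 17), (9, 3), (16,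 27), (16, 38), (15, 10), (16, 10), (16, 12), (16, 45), (15, 45), (16, 32), (15, 6), (16, 1), (16, 21), (10, 0), (15, 17), (15, 54), (16, 6), (15, 1), (15, 27), (16, 34), (11, 1), (14, 2), (13, 0), (12, 0), (15, 11), (16, 22), (15, 0), (16, 0), (15, 33), (16, 44), (15, 22), (15, 44), (12, 2), (16, 11), (16, 33)]

/-- The relators, as words of columns. -/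
def relWords : List (List ℕ) := [[0, 0], [0, 1, 0, 1, 0, 1, 0, 1, 0, 1, 0, 1, 0, 1, 0, 1, 0, 1, 0, 1], [0, 2, 0, 2], [1, 0, 1, 0, 1, 0, 1, 0, 1, 0, 1, 0, 1, 0, 1, 0, 1, 0, 1, 0], [1, 1], [1, 2, 1, 2, 1, 2], [2, 0, 2, 0], [2, 1, 2, 1, 2, 1], [2, 2], [2, 1, 0, 2, 0, 1, 2, 1], [2, 1, 0, 1, 0, 1, 0, 1, 0, 1, 2, 1, 0, 1, 0, 1, 0, 1, 0, 1], [3, 3, 3], [3, 0, 4, 0], [3, 1, 3, 1], [3, 2, 3, 2, 3, 2], [3, 2, 1, 0, 1, 0, 2, 1, 0, 1, 2, 3, 2, 1, 0, 1, 0, 2, 1, 0, 1, 2, 3, 2, 1, 0, 1, 2, 0, 1, 0, 1, 2, 3, 2, 1, 0, 1, 2, 0, 1, 0, 1, 2, 3, 2, 1, 0, 1, 2, 0, 1, 0, 1, 2, 0, 1, 0, 1, 0], [3, 2, 1, 0, 1, 0, 2, 1, 0, 1, 2, 4, 2, 1, 0, 1, 0, 2, 1, 0, 1, 2, 3, 2, 1, 0, 1, 2, 0, 1,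 0, 1, 2, 4, 2, 1, 0, 1, 2, 0, 1, 0, 1, 2, 3, 2, 1, 0, 1, 2, 1, 0, 1, 0, 1, 2, 1, 0, 1, 0]]

/-- The words of the auxiliary columns. -/
def aux : List (List ℕ) := [[0, 1, 0, 1]]

/-- The words checked on the permutation model, with auxiliary columns. -/
def mwordsA : List (List ℕ) := [[5, 5, 5, 5, 5], [0, 2, 0, 2], [1, 2, 1, 2, 1, 2], [2, 1, 0, 2, 0, 1, 2, 1], [2, 1, 0, 1, 0, 1, 0, 1, 0, 1, 2, 1, 0, 1, 0, 1, 0, 1, 0, 1], [3, 3, 3], [3, 0, 4, 0], [3, 1, 3, 1], [3, 2, 3, 2, 3, 2], [3, 2, 1, 0, 1, 0, 2, 1, 0, 1, 2, 3, 2, 1, 0, 1, 0, 2, 1, 0, 1, 2, 3, 2, 1, 0, 1, 2, 0, 1, 0, 1, 2, 3, 2, 1, 0, 1, 2, 0, 1, 0, 1, 2, 3, 2, 1, 0, 1, 2, 0, 1, 0, 1, 2, 0, 1, 0, 1, 0], [3,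 2, 1, 0, 1, 0, 2, 1, 0, 1, 2, 4, 2, 1, 0, 1, 0, 2, 1, 0, 1, 2, 3, 2, 1, 0, 1, 2, 0, 1, 0, 1, 2, 4, 2, 1, 0, 1, 2, 0, 1, 0, 1, 2, 3, 2, 1, 0, 1, 2, 1, 0, 1, 0, 1, 2, 1, 0, 1, 0]]

/-- The table. -/
noncomputable def tab : Tab where
  k := 5
  inv := fun c => (bif Nat.beq c 0 then 0 else (bif Nat.beq c 1 then 1 else (bif Nat.beq c 2 then 2 else (bif Nat.beq c 3 then 4 else (bif Nat.beq c 4 then 3 else c)))))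
  N := 4080
  n := 4080
  Tmax := 20401
  wn := 12
  mn := 0xfff
  subs := [[0], [1], [2]]
  rot := fun i => rotT.getF i
  ent := fun c i => bget2 entT_0 4 9 27 0x7ffffff 511 c i
  cer := fun c i => bget2 cerT_0 3 10 10 0x3ff 1023 c i
  tau := fun c i => bget2 tauT_0 3 10 12 0xfff 1023 c i
  lk := fun i => bget lkT_0 14 1 0x1 16383 i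
  lc := fun i => bget lcT_0 14 1 0x1 16383 i
  pn := fun i => bget pnT_0 10 15 0x7fff 1023 i
  cls := fun i => bget clsT_0 10 12 0xfff 1023 i
  rep := fun i => bget repT_0 10 12 0xfff 1023 i

end Cfsg.Agent.Helper9.TCData.S44C0
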